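import Groth.Agent.L03.SurfRR.Main
import Groth.Agent.L03.BlowPt.Rules
import Groth.Agent.L03.BlowPt.PtDeg
import Groth.Agent.L03.BlowPt.ZeroPoint
import Groth.Agent.L03.BlowPt.RegularUp
import Groth.Agent.L03.BlowAcyc.Unit
import Groth.Agent.L13.PairBlow.Descend
import Groth.Agent.L13.PointBlow.Twist
import Groth.Agent.L13.BlowUp.Exists
import Groth.Agent.L05.PtSeq.StrictCurve
import Groth.Agent.L22.FibreDim
import Groth.Agent.L07.DiffOpSheaf

/-!
# Intersection numbers on the blow-up of a point of a regular proper surface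
-/

set_option autoImplicit false
set_option linter.style.haveILetI false
set_option backward.isDefEq.respectTransparency false
set_option linter.unusedSectionVars false

universe u

open CategoryTheory CategoryTheory.Limits AlgebraicGeometry TopologicalSpace
open Groth.L22.Inter Groth.L22.Nef Groth.L22.Big Groth.L03.Euler
open Groth.L00.Tensor (tensorIso tensorUnitLeft)
open Groth.L03.BlowPt (ptI exc ptDeg)
open Groth.L05.PtSeq (stI_ptI stI_comap stI_eq_top_iff ext_stI)

noncomputable section

namespace Groth.L03.SurfRR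

theorem comap_ptI {Z X : Scheme.{u}} (f : Z ⟶ X) [IsClosedImmersion f] {z : Z} (hz : IsClosed ({z} : Set Z))
    {x : X} (hx : IsClosed ({x} : Set X)) (e : f z = x) : (ptI hx).comap f = ptI hz := by
  subst e
  have hs : ∀ {W : Scheme.{u}} {w : W} (hw : IsClosed ({w} : Set W)), ((ptI hw).support : Set W) = {w} :=
    fun hw => by simp [ptI]
  refine ext_stI fun w => ?_
  rw [stI_comap]
  by_cases hw : w = z
  · subst hw
    rw [stI_ptI hx, stI_ptI hz]
    exact IsLocalRing.map_maximalIdeal_of_surjective _ (f.stalkMap_surjective w)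
  · rw [(stI_eq_top_iff (ptI hz) w).2 (by rw [hs]; exact hw),
      (stI_eq_top_iff (ptI hx) (f w)).2 (by rw [hs]; exact fun e => hw (f.isClosedEmbedding.injective e)),
      Ideal.map_top]

variable (k : Type u) [Field k]

/-- The intersection form only depends on the isomorphism classes. -/
theorem ii_iso {V : Scheme.{u}} [V.Over (Spec (CommRingCat.of k))] [IsProper (V ↘ Spec (CommRingCat.of k))]
    {A A' : V.Modules} (e : A ≅ A') (C : V.Modules) : ii k A C = ii k A' C := by
  rw [ii_expand k, ii_expand k, euler_iso e, euler_iso (tensorIso e (Iso.refl C))]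

/-- The intersection form is the sum over the pieces. -/
theorem ii_sum {X : Scheme.{u}} [X.Over (Spec (CommRingCat.of k))] [IsProper (X ↘ Spec (CommRingCat.of k))]
    {p : ℕ} (U : Fin p → X.Opens) (hdisj : ∀ i j, i ≠ j → ∀ x, x ∈ U i → x ∉ U j) (hcov : iSup U = ⊤)
    (hclosed : ∀ j, IsClosedImmersion (U j).ι) {A B : X.Modules} (hA : PicF.IsInvertible A)
    (hB : PicF.IsInvertible B) :
    ii k A B = ∑ j, @ii k _ (U j : Scheme.{u}) (overPiece U k j) ((Scheme.Modules.pullback (U j).ι).obj A)
      ((Scheme.Modules.pullback (U j).ι).obj B) := by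
  haveI := Groth.L21.RR.isNoetherian_of_proper (X := X) k
  have hsum : ∀ {M : X.Modules}, PicF.IsInvertible M → (Curv2.euler k X M : ℚ) =
      ∑ j, (@Curv2.euler k _ (U j : Scheme.{u}) (overPiece U k j) ((Scheme.Modules.pullback (U j).ι).obj M) : ℚ) :=
    fun hM => by
      rw [euler_sum U hdisj hcov k hclosed (Groth.L18.Ample.isCoh_of_isInvertible hM)]
      push_cast
      rfl
  rw [ii_expand k, hsum (Groth.L18.GenLoc.isInvertible_tensor hA hB), hsum hA, hsum hB,
    hsum (Groth.L18.Ample.isInvertible_structureModule X), ← Finset.sum_sub_distrib, ← Finset.sum_sub_distrib,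
    ← Finset.sum_add_distrib]
  refine Finset.sum_congr rfl fun j _ => ?_
  letI := overPiece U k j
  haveI := hclosed j
  haveI : IsProper ((U j : Scheme.{u}) ↘ Spec (CommRingCat.of k)) :=
    inferInstanceAs (IsProper ((U j).ι ≫ (X ↘ Spec (CommRingCat.of k))))
  rw [ii_expand k, euler_iso (Groth.L29.DC.PullTensor.pullTensor (U j).ι A B).symm,
    euler_iso (Groth.L29.LocFree.pullbackUnitIso (U j).ι)]

/-- Isomorphisms preserve the intersection form. -/
theorem ii_pullback_iso {V U : Scheme.{u}} [V.Over (Spec (CommRingCat.of k))] [IsProper (V ↘ Spec (CommRingCat.of k))]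
    [U.Over (Spec (CommRingCat.of k))] [IsProper (U ↘ Spec (CommRingCat.of k))] (g : V ⟶ U) [IsIso g]
    (hg : g ≫ (U ↘ Spec (CommRingCat.of k)) = V ↘ Spec (CommRingCat.of k)) {A B : U.Modules}
    (hA : PicF.IsInvertible A) (hB : PicF.IsInvertible B) :
    ii k ((Scheme.Modules.pullback g).obj A) ((Scheme.Modules.pullback g).obj B) = ii k A B := by
  haveI : U.IsSeparated := ⟨by rw [← terminal.comp_from (U ↘ Spec (CommRingCat.of k))]; infer_instance⟩
  haveI := Groth.L21.RR.isNoetherian_of_proper (X := V) k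
  have hχ : ∀ {M : U.Modules}, PicF.IsInvertible M →
      Curv2.euler k V ((Scheme.Modules.pullback g).obj M) = Curv2.euler k U M := fun {M} hM => by
    haveI := Groth.L07.DiffOpSheaf.isIso_unit_of_isIso g M
    have h := euler_push (k := k) g ((Scheme.Modules.pullback g).obj M)
      (Groth.L18.Ample.isCoh_of_isInvertible (Groth.L18.Ample.isInvertible_pullback g hM)).1 hg
    exact h.symm.trans (euler_iso (asIso ((Scheme.Modules.pullbackPushforwardAdjunction g).unit.app M)).symm)
  rw [ii_expand k, ii_expand k, euler_iso (Groth.L29.DC.PullTensor.pullTensor g A B),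
    hχ (Groth.L18.GenLoc.isInvertible_tensor hA hB), hχ hA, hχ hB,
    ← euler_iso (Groth.L29.LocFree.pullbackUnitIso g), hχ (Groth.L18.Ample.isInvertible_structureModule U)]

theorem ii_structure {V : Scheme.{u}} [V.Over (Spec (CommRingCat.of k))] [IsProper (V ↘ Spec (CommRingCat.of k))]
    (A : V.Modules) : ii k A (Coh.structureModule V) = 0 := by
  rw [ii_expand k, euler_iso (Groth.L00.Tensor.tensorUnitRight A)]
  ring

/-- The blow-up of a closed point of a regular proper surface. -/
theorem blowPoint {X X' : Scheme.{u}} [X.Over (Spec (CommRingCat.of k))] [X'.Over (Spec (CommRingCat.of k))]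
    [IsProper (X ↘ Spec (CommRingCat.of k))]
    (hdim : ∀ Z ∈ irreducibleComponents (X : Type u), topologicalKrullDim Z = 2)
    (hreg : ∀ y : X, IsRegularLocalRing (X.presheaf.stalk y))
    {x : X} (hx : IsClosed ({x} : Set X)) (π : X' ⟶ X)
    (hπk : π ≫ (X ↘ Spec (CommRingCat.of k)) = X' ↘ Spec (CommRingCat.of k))
    (hπ : BlowUp.IsBlowUp π (ptI hx)) {L M : X.Modules} (hL : PicF.IsInvertible L) (hM : PicF.IsInvertible M) :
    letI : Algebra k (X.residueField x) := Curv2.resAlgebra k X x
    IsProper (X' ↘ Spec (CommRingCat.of k)) ∧ topologicalKrullDim X' ≤ (2 : ℕ) ∧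
      ii k ((Scheme.Modules.pullback π).obj L) ((Scheme.Modules.pullback π).obj M) = ii k L M ∧
      ii k ((Scheme.Modules.pullback π).obj L) (ClSub.idealMod (exc hx π)) = 0 ∧
      ii k (ClSub.idealMod (exc hx π)) (ClSub.idealMod (exc hx π)) = -(Module.finrank k (X.residueField x) : ℚ) := by
  classical
  letI : Algebra k (X.residueField x) := Curv2.resAlgebra k X x
  haveI := Groth.L21.RR.isNoetherian_of_proper (X := X) k
  haveI : IsProper π := Groth.L13.BU.isProper_blowUp hπ fun U =>
    haveI : IsNoetherianRing Γ(X, U.1) := IsLocallyNoetherian.component_noetherian U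
    IsNoetherian.noetherian _
  haveI : IsProper (X' ↘ Spec (CommRingCat.of k)) := by rw [← hπk]; infer_instance
  haveI := Groth.L21.RR.isNoetherian_of_proper (X := X') k
  have hdom : ∀ y : X, IsDomain (X.presheaf.stalk y) := fun y =>
    haveI := hreg y; Groth.L01.isDomain_of_regular _
  haveI := (NoetherianSpace.finite_irreducibleComponents (α := X)).to_subtype
  obtain ⟨p, ⟨e⟩⟩ := Finite.exists_equiv_fin (irreducibleComponents (X : Type u))
  let U : Fin p → X.Opens := fun j => Groth.L28.DivGen.compOpen hdom (e.symm j)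
  have hdisj : ∀ i j, i ≠ j → ∀ y, y ∈ U i → y ∉ U j := fun i j hij y hi hj => by
    haveI := hdom y
    exact hij (e.symm.injective (Subtype.ext
      (Groth.L21.NormalTotal.eq_of_mem_irreducibleComponents y (e.symm i).2 (e.symm j).2 hi hj)))
  have hcov : iSup U = ⊤ := eq_top_iff.2 fun y _ => Opens.mem_iSup.2
    ⟨e ⟨irreducibleComponent y, irreducibleComponent_mem_irreducibleComponents y⟩, by
      show y ∈ (U _ : Set X)
      simp only [U, Equiv.symm_apply_apply]
      exact mem_irreducibleComponent⟩
  have hclosed : ∀ j, IsClosedImmersion (U j).ι := fun j =>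
    Groth.L28.DivGen.isClosedImmersion_compOpen hdom _
  have hint : ∀ j, IsIntegral (U j : Scheme.{u}) := fun j => Groth.L28.DivGen.isIntegral_compOpen hdom _
  have hdimU : ∀ j, topologicalKrullDim (U j : Scheme.{u}) = (2 : ℕ) := fun j =>
    (hdim _ (e.symm j).2).trans Nat.cast_ofNat.symm
  let V : Fin p → X'.Opens := fun j => π ⁻¹ᵁ U j
  have hdisjV : ∀ i j, i ≠ j → ∀ y, y ∈ V i → y ∉ V j := fun i j hij y hi hj => hdisj i j hij (π y) hi hj
  have hcovV : iSup V = ⊤ := eq_top_iff.2 fun y _ => by
    obtain ⟨j, hj⟩ := Opens.mem_iSup.1 (hcov.ge (show π y ∈ (⊤ : X.Opens) from trivial))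
    exact Opens.mem_iSup.2 ⟨j, hj⟩
  have hclosedV : ∀ j, IsClosedImmersion (V j).ι := fun j =>
    haveI := hclosed j
    MorphismProperty.of_isPullback (P := @IsClosedImmersion) (isPullback_morphismRestrict π (U j)) inferInstance
  obtain ⟨j₀, hj₀⟩ : ∃ j, x ∈ U j := Opens.mem_iSup.1 (hcov.ge (show x ∈ (⊤ : X.Opens) from trivial))
  have hE : PicF.IsInvertible (ClSub.idealMod (exc hx π)) :=
    (Groth.Agent.L19.IdealInvertible.isEffCartier_iff _).2 hπ.1
  have hLp := Groth.L18.Ample.isInvertible_pullback π hL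
  have hMp := Groth.L18.Ample.isInvertible_pullback π hM
  -- one piece at a time
  have key : ∀ j, letI := overPiece U k j; letI := overPiece V k j
      topologicalKrullDim (V j : Scheme.{u}) ≤ (2 : ℕ) ∧
      ii k ((Scheme.Modules.pullback (V j).ι).obj ((Scheme.Modules.pullback π).obj L))
          ((Scheme.Modules.pullback (V j).ι).obj ((Scheme.Modules.pullback π).obj M)) =
        ii k ((Scheme.Modules.pullback (U j).ι).obj L) ((Scheme.Modules.pullback (U j).ι).obj M) ∧
      ii k ((Scheme.Modules.pullback (V j).ι).obj ((Scheme.Modules.pullback π).obj L))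
          ((Scheme.Modules.pullback (V j).ι).obj (ClSub.idealMod (exc hx π))) = 0 ∧
      ii k ((Scheme.Modules.pullback (V j).ι).obj (ClSub.idealMod (exc hx π)))
          ((Scheme.Modules.pullback (V j).ι).obj (ClSub.idealMod (exc hx π))) =
        if j = j₀ then -(Module.finrank k (X.residueField x) : ℚ) else 0 := by
    intro j
    letI := overPiece U k j
    letI := overPiece V k j
    haveI := hint j
    haveI := hclosed j
    haveI := hclosedV j
    haveI : IsProper ((U j : Scheme.{u}) ↘ Spec (CommRingCat.of k)) :=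
      inferInstanceAs (IsProper ((U j).ι ≫ (X ↘ Spec (CommRingCat.of k))))
    haveI : IsProper ((V j : Scheme.{u}) ↘ Spec (CommRingCat.of k)) :=
      inferInstanceAs (IsProper ((V j).ι ≫ (X' ↘ Spec (CommRingCat.of k))))
    haveI := Groth.L21.RR.isNoetherian_of_proper (X := (U j : Scheme.{u})) k
    let g : (V j : Scheme.{u}) ⟶ (U j : Scheme.{u}) := π ∣_ U j
    have hg : g ≫ (U j).ι = (V j).ι ≫ π := morphismRestrict_ι π (U j)
    have hgk : g ≫ ((U j : Scheme.{u}) ↘ Spec (CommRingCat.of k)) = (V j : Scheme.{u}) ↘ Spec (CommRingCat.of k) := by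
      show g ≫ (U j).ι ≫ (X ↘ Spec (CommRingCat.of k)) = (V j).ι ≫ (X' ↘ Spec (CommRingCat.of k))
      rw [reassoc_of% hg, hπk]
    let a : ∀ A : X.Modules, (Scheme.Modules.pullback (V j).ι).obj ((Scheme.Modules.pullback π).obj A) ≅
        (Scheme.Modules.pullback g).obj ((Scheme.Modules.pullback (U j).ι).obj A) := fun A =>
      (Scheme.Modules.pullbackComp (V j).ι π).app A ≪≫ (Scheme.Modules.pullbackCongr hg.symm).app A ≪≫
        ((Scheme.Modules.pullbackComp g (U j).ι).app A).symm
    have hb := Groth.L03.BlowAcyc.isBlowUp_restrict hπ (U j)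
    have hexc : (exc hx π).comap (V j).ι = ((ptI hx).comap (U j).ι).comap g := by
      show ((ptI hx).comap π).comap (V j).ι = _
      rw [← Scheme.IdealSheafData.comap_comp, ← Scheme.IdealSheafData.comap_comp, hg]
    obtain ⟨ε⟩ := Groth.L13.PairBlow.nonempty_restrict_idealMod (V j).ι (exc hx π)
    let b : (Scheme.Modules.pullback (V j).ι).obj (ClSub.idealMod (exc hx π)) ≅
        ClSub.idealMod (((ptI hx).comap (U j).ι).comap g) :=
      ((Scheme.Modules.restrictFunctorIsoPullback (V j).ι).app _).symm ≪≫ ε ≪≫ eqToIso (by rw [hexc])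
    have hLj := Groth.L18.Ample.isInvertible_pullback (U j).ι hL
    have hMj := Groth.L18.Ample.isInvertible_pullback (U j).ι hM
    have e1 : ∀ {A A' B B' : (V j : Scheme.{u}).Modules}, (A ≅ A') → (B ≅ B') → ii k A B = ii k A' B' :=
      fun {A A' B B'} f f' => by rw [ii_iso k f, ii_comm k A', ii_iso k f', ii_comm k B']
    rw [e1 (a L) (a M), e1 (a L) b, e1 b b]
    by_cases hj : j = j₀
    · subst hj
      let x₀ : (U j : Scheme.{u}) := ⟨x, hj₀⟩
      have hx₀ : IsClosed ({x₀} : Set (U j : Scheme.{u})) := by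
        have h := hx.preimage (U j).ι.continuous
        rwa [show ((U j).ι ⁻¹' {x} : Set (U j : Scheme.{u})) = {x₀} from Set.ext fun z => by
          simp only [Set.mem_preimage, Set.mem_singleton_iff]
          exact ⟨fun h => (U j).ι.isClosedEmbedding.injective h, fun h => by subst h; rfl⟩] at h
      have hc : (ptI hx).comap (U j).ι = ptI hx₀ := comap_ptI (U j).ι hx₀ hx rfl
      rw [hc] at hb ⊢
      haveI : IsIntegral (V j : Scheme.{u}) :=
        (Groth.L16.Blow.isIntegral_and_birational hb (Groth.L03.BlowPt.ptI_ne_bot (hx := hx₀) (hdimU j))).1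
      have hregU : IsRegularLocalRing ((U j : Scheme.{u}).presheaf.stalk x₀) := by
        haveI := hreg x
        exact IsRegularLocalRing.of_ringEquiv ((U j).stalkIso x₀).commRingCatIsoToRingEquiv.symm
      have hdV := Groth.L03.BlowPt.dim_up k (hdimU j) hb
      obtain ⟨-, hpp, horth, hII⟩ := Groth.L03.BlowPt.rules k hgk (hdimU j) hregU hdV hb
      refine ⟨hdV.le, hpp hLj hMj, (ii_comm k _ _).trans (horth hLj), ?_⟩
      rw [if_pos rfl, hII, Groth.L03.BlowPt.ptDeg_eq hx₀ k]
      push_cast
      congr 2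
      letI : Algebra k ((U j : Scheme.{u}).residueField x₀) := Curv2.resAlgebra k (U j) x₀
      have hsq : CommRingCat.ofHom (Curv2.resMap k X x) ≫ (U j).ι.residueFieldMap x₀ =
          CommRingCat.ofHom (Curv2.resMap k (U j : Scheme.{u}) x₀) := by
        apply Spec.map_injective
        rw [Spec.map_comp, Groth.L22.FibreDim.SpecMap_resMap]
        erw [Groth.L22.FibreDim.SpecMap_resMap]
        exact Scheme.Hom.SpecMap_residueFieldMap_fromSpecResidueField_assoc (U j).ι x₀ _
      let ρ : (X.residueField x) ≃ₐ[k] ((U j : Scheme.{u}).residueField x₀) :=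
        AlgEquiv.ofBijective
          { ((U j).ι.residueFieldMap x₀).hom with
            commutes' := fun c => congrArg (fun φ => φ.hom c) hsq }
          (Groth.L22.FibreDim.residueFieldMap_bijective (U j).ι x₀)
      exact ρ.toLinearEquiv.finrank_eq.symm
    · have htop : (ptI hx).comap (U j).ι = ⊤ := by
        rw [← Scheme.IdealSheafData.support_eq_bot_iff]
        refine TopologicalSpace.Closeds.ext (Set.eq_empty_of_forall_notMem fun z hz => ?_)
        rw [Scheme.IdealSheafData.support_comap] at hz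
        have hz' : (U j).ι z ∈ ((ptI hx).support : Set X) := hz
        have hzx : (U j).ι z = x := by simpa [ptI] using hz'
        exact hdisj j j₀ hj x (hzx ▸ z.2) hj₀
      rw [htop] at hb ⊢
      haveI : IsIso g := by
        have h1 : BlowUp.IsBlowUp (𝟙 (U j : Scheme.{u})) (⊤ : (U j : Scheme.{u}).IdealSheafData) := by
          refine ⟨?_, fun T t _ => ⟨t, Category.comp_id t, fun l hl => by rw [← hl, Category.comp_id]⟩⟩
          rw [Scheme.IdealSheafData.comap_top]
          exact Groth.L22.Ideals.isEffCartier_top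
        exact Groth.L13.BU.isIso_of_blowUps h1 hb g (Category.comp_id g)
      obtain ⟨o⟩ := Groth.L13.PointBlow.idealMod_one (X := (V j : Scheme.{u}))
      let o' : ClSub.idealMod ((⊤ : (U j : Scheme.{u}).IdealSheafData).comap g) ≅ Coh.structureModule _ :=
        eqToIso (by rw [Scheme.IdealSheafData.comap_top, Scheme.IdealSheafData.one_eq_top]) ≪≫ o
      have hdV : topologicalKrullDim (V j : Scheme.{u}) ≤ (2 : ℕ) :=
        ((IsHomeomorph.topologicalKrullDim_eq _ (Scheme.homeoOfIso (asIso g)).isHomeomorph).trans (hdimU j)).le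
      refine ⟨hdV, ii_pullback_iso k g hgk hLj hMj, ?_, ?_⟩
      · rw [ii_comm k, ii_iso k o', ii_comm k]
        exact ii_structure k _
      · rw [if_neg hj, ii_iso k o', ii_comm]
        exact ii_structure k _
  refine ⟨inferInstance, Groth.L10.ShriekLoc.dim_le_of_components 2 fun Z hZ => ?_, ?_, ?_, ?_⟩
  · obtain ⟨z, hz⟩ := hZ.1.nonempty
    obtain ⟨j, hj⟩ := Opens.mem_iSup.1 (hcovV.ge (show z ∈ (⊤ : X'.Opens) from trivial))
    have hsub : Z ⊆ (V j : Set X') := by
      haveI := hclosedV j
      have hcl : IsClosed (V j : Set X') := by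
        rw [← Scheme.Opens.range_ι]; exact (V j).ι.isClosedEmbedding.isClosed_range
      exact hZ.1.2.isPreconnected.subset_isClopen ⟨hcl, (V j).2⟩ ⟨z, hz, hj⟩
    refine (Groth.L22.SchemeDim.topologicalKrullDim_mono hsub).trans ?_
    exact (key j).1
  · rw [ii_sum k V hdisjV hcovV hclosedV hLp hMp, ii_sum k U hdisj hcov hclosed hL hM]
    exact Finset.sum_congr rfl fun j _ => (key j).2.1
  · rw [ii_sum k V hdisjV hcovV hclosedV hLp hE]
    exact Finset.sum_eq_zero fun j _ => (key j).2.2.1
  · rw [ii_sum k V hdisjV hcovV hclosedV hE hE, Finset.sum_congr rfl fun j _ => (key j).2.2.2,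
      Finset.sum_ite_eq' Finset.univ j₀, if_pos (Finset.mem_univ _)]

end Groth.L03.SurfRR
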