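import Groth.Agent.L03.SurfRR.Split
import Groth.Agent.L03.SurfAdj.Canonical
import Groth.Agent.L03.SurfAdj.Tools
import Groth.Agent.L03.BlowPt.DetCongr
import Groth.Agent.L12.RR.Def.Base
import Groth.Agent.L20.ExtPull
import Groth.Agent.L18.Grass.MapEpi
import Groth.Agent.L21.OmegaFam.BaseChange
import Groth.Agent.L21.RR.BaseChange
import Groth.Agent.L28.DivGen.Components
import Groth.Agent.L01.Regular
import Groth.Agent.L08.Cube.SmoothStalk
import Groth.Agent.L10.ShriekLoc.FieldSupp
import Mathlib.FieldTheory.IsAlgClosed.AlgebraicClosure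

/-!
# Riemann–Roch on smooth proper surfaces
-/

set_option autoImplicit false
set_option linter.style.haveILetI false
set_option backward.isDefEq.respectTransparency false
set_option linter.unusedSectionVars false

universe u

open CategoryTheory CategoryTheory.Limits AlgebraicGeometry TopologicalSpace
open Groth.L22.Inter Groth.L22.Nef Groth.L22.Big Groth.L03.Euler
open Groth.L00.Tensor (tensorIso tensorUnitLeft)

noncomputable section

namespace Groth.L03.SurfRR

variable (k : Type u) [Field k]

section Formal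

variable {X : Scheme.{u}} [X.Over (Spec (CommRingCat.of k))] [IsProper (X ↘ Spec (CommRingCat.of k))]

/-- The intersection form through Euler characteristics. -/
theorem ii_expand (A B : X.Modules) : ii k A B = (Curv2.euler k X (CohB1.tensorMod A B) : ℚ) -
    Curv2.euler k X A - Curv2.euler k X B + Curv2.euler k X (Coh.structureModule X) := by
  rw [ii, altT_cons, altT_iso k _ (tensorUnitLeft A), altT_one, altT_one, euler_iso (tensorUnitLeft B)]
  push_cast
  ring

theorem intNum_two (hd : topologicalKrullDim X ≤ (2 : ℕ)) (A B : X.Modules) :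
    (FGA.intNum k X 2 ![A, B] (Coh.structureModule X) : ℚ) = ii k A B := by
  haveI := Groth.L21.RR.isNoetherian_of_proper (X := X) k
  rw [intNum_eq k hd, ii_vec]
  ring

end Formal

/-- Riemann–Roch over an algebraically closed field, for a possibly disconnected surface. -/
theorem rr_closed [IsAlgClosed k] {X : Scheme.{u}} [X.Over (Spec (CommRingCat.of k))]
    [IsProper (X ↘ Spec (CommRingCat.of k))] [Smooth (X ↘ Spec (CommRingCat.of k))]
    (hdim : ∀ Z ∈ irreducibleComponents (X : Type u), topologicalKrullDim Z = 2)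
    {W : X.Modules} (hW : ExtPow.IsExtPow 2 (Omega.sheaf (X ↘ Spec (CommRingCat.of k))) W)
    {L : X.Modules} (hL : PicF.IsInvertible L) :
    PicF.IsInvertible W ∧ 2 * (Curv2.euler k X L : ℚ) =
      ii k L L - ii k L W + 2 * (Curv2.euler k X (Coh.structureModule X) : ℚ) := by
  classical
  haveI := Groth.L21.RR.isNoetherian_of_proper (X := X) k
  have hreg := fun x : X => Groth.L08.Cube.isRegularLocalRing_of_smooth (X ↘ Spec (CommRingCat.of k)) x
  have hdom : ∀ x : X, IsDomain (X.presheaf.stalk x) := fun x =>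
    haveI := hreg x; Groth.L01.isDomain_of_regular _
  haveI := (NoetherianSpace.finite_irreducibleComponents (α := X)).to_subtype
  obtain ⟨p, ⟨e⟩⟩ := Finite.exists_equiv_fin (irreducibleComponents (X : Type u))
  let U : Fin p → X.Opens := fun j => Groth.L28.DivGen.compOpen hdom (e.symm j)
  have hdisj : ∀ i j, i ≠ j → ∀ x, x ∈ U i → x ∉ U j := fun i j hij x hi hj => by
    haveI := hdom x
    exact hij (e.symm.injective (Subtype.ext
      (Groth.L21.NormalTotal.eq_of_mem_irreducibleComponents x (e.symm i).2 (e.symm j).2 hi hj)))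
  have hcov : iSup U = ⊤ := eq_top_iff.2 fun x _ => Opens.mem_iSup.2
    ⟨e ⟨irreducibleComponent x, irreducibleComponent_mem_irreducibleComponents x⟩, by
      show x ∈ (U _ : Set X)
      simp only [U, Equiv.symm_apply_apply]
      exact mem_irreducibleComponent⟩
  have hclosed : ∀ j, IsClosedImmersion (U j).ι := fun j =>
    Groth.L28.DivGen.isClosedImmersion_compOpen hdom _
  have hint : ∀ j, IsIntegral (U j : Scheme.{u}) := fun j => Groth.L28.DivGen.isIntegral_compOpen hdom _
  have hdimU : ∀ j, topologicalKrullDim (U j : Scheme.{u}) = 2 := fun j => hdim _ (e.symm j).2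
  haveI : SmoothOfRelativeDimension 2 (X ↘ Spec (CommRingCat.of k)) := by
    refine IsZariskiLocalAtSource.of_iSup_eq_top (P := @SmoothOfRelativeDimension 2) U hcov fun j => ?_
    haveI := hint j
    exact Groth.L16.SmoothSection.smoothOfRelativeDimension_dim _ 2 ((hdimU j).trans Nat.cast_ofNat.symm)
  have hΩ := Groth.L02.Canon.isFinLocFreeOfRank_omega (f := X ↘ Spec (CommRingCat.of k)) 2
  have hWinv : PicF.IsInvertible W := by
    obtain ⟨ψ, hψ⟩ := id hW
    exact Groth.L22.CurveDeg.Det.isInvertible_of_extPow ψ hψ hΩ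
  refine ⟨hWinv, ?_⟩
  haveI : Coh.IsQCoh (Omega.sheaf (X ↘ Spec (CommRingCat.of k))) :=
    Groth.L29.DC.PCQCoh.isQCoh_of_isFinLocFree fun x => let ⟨V, hV⟩ := hΩ x; ⟨V, 2, hV⟩
  have key : ∀ j, letI := overPiece U k j
      2 * (Curv2.euler k (U j) ((Scheme.Modules.pullback (U j).ι).obj L) : ℚ) =
        ii k ((Scheme.Modules.pullback (U j).ι).obj L) ((Scheme.Modules.pullback (U j).ι).obj L) -
          ii k ((Scheme.Modules.pullback (U j).ι).obj L) ((Scheme.Modules.pullback (U j).ι).obj W) +
          2 * (Curv2.euler k (U j) (Coh.structureModule (U j : Scheme.{u})) : ℚ) := by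
    intro j
    letI := overPiece U k j
    haveI := hint j
    haveI := hclosed j
    haveI : IsProper ((U j : Scheme.{u}) ↘ Spec (CommRingCat.of k)) :=
      inferInstanceAs (IsProper ((U j).ι ≫ (X ↘ Spec (CommRingCat.of k))))
    haveI : Smooth ((U j : Scheme.{u}) ↘ Spec (CommRingCat.of k)) :=
      inferInstanceAs (Smooth ((U j).ι ≫ (X ↘ Spec (CommRingCat.of k))))
    obtain ⟨eo⟩ := Groth.L03.BlowPt.nonempty_omega_restrict (X ↘ Spec (CommRingCat.of k)) (U j).ι
      ((U j : Scheme.{u}) ↘ Spec (CommRingCat.of k)) (𝟙 (U j : Scheme.{u})) (Category.id_comp _).symm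
    have hWj : ExtPow.IsExtPow 2 (Omega.sheaf ((U j : Scheme.{u}) ↘ Spec (CommRingCat.of k)))
        ((Scheme.Modules.pullback (U j).ι).obj W) :=
      Groth.L20.ExtPull.isExtPow_congr (eo ≪≫ (Scheme.Modules.pullbackId _).app _)
        (Groth.L20.ExtPull.isExtPow_pullback (U j).ι hW)
    exact (Groth.L03.SurfAdj.canonical k (hdimU j)
      (fun x => Groth.L08.Cube.isRegularLocalRing_of_smooth ((U j : Scheme.{u}) ↘ Spec (CommRingCat.of k)) x) hWj).2.2.2
      _ (Groth.L18.Ample.isInvertible_pullback _ hL)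
  have hsum : ∀ {M : X.Modules}, PicF.IsInvertible M → (Curv2.euler k X M : ℚ) =
      ∑ j, (@Curv2.euler k _ (U j : Scheme.{u}) (overPiece U k j) ((Scheme.Modules.pullback (U j).ι).obj M) : ℚ) :=
    fun hM => by
      rw [euler_sum U hdisj hcov k hclosed (Groth.L18.Ample.isCoh_of_isInvertible hM)]
      push_cast
      rfl
  have hO := Groth.L18.Ample.isInvertible_structureModule X
  have hOs : (Curv2.euler k X (Coh.structureModule X) : ℚ) =
      ∑ j, (@Curv2.euler k _ (U j : Scheme.{u}) (overPiece U k j) (Coh.structureModule (U j : Scheme.{u})) : ℚ) := by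
    rw [hsum hO]
    refine Finset.sum_congr rfl fun j _ => ?_
    letI := overPiece U k j
    rw [euler_iso (Groth.L29.LocFree.pullbackUnitIso (U j).ι)]
  have htens : ∀ {M N : X.Modules}, PicF.IsInvertible M → PicF.IsInvertible N →
      (Curv2.euler k X (CohB1.tensorMod M N) : ℚ) =
      ∑ j, (@Curv2.euler k _ (U j : Scheme.{u}) (overPiece U k j) (CohB1.tensorMod
        ((Scheme.Modules.pullback (U j).ι).obj M) ((Scheme.Modules.pullback (U j).ι).obj N)) : ℚ) := fun {M N} hM hN => by
    rw [hsum (Groth.L18.GenLoc.isInvertible_tensor hM hN)]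
    refine Finset.sum_congr rfl fun j _ => ?_
    letI := overPiece U k j
    rw [euler_iso (Groth.L29.DC.PullTensor.pullTensor (U j).ι M N).symm]
  rw [ii_expand k, ii_expand k, htens hL hL, htens hL hWinv, hsum hL, hsum hWinv, hOs]
  simp only [Finset.mul_sum, ← Finset.sum_sub_distrib, ← Finset.sum_add_distrib]
  refine Finset.sum_congr rfl fun j _ => ?_
  letI := overPiece U k j
  haveI := hclosed j
  haveI : IsProper ((U j : Scheme.{u}) ↘ Spec (CommRingCat.of k)) :=
    inferInstanceAs (IsProper ((U j).ι ≫ (X ↘ Spec (CommRingCat.of k))))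
  have h := key j
  rw [ii_expand k, ii_expand k] at h
  linarith

/-- Differentials of a smooth morphism commute with base change. -/
theorem nonempty_pullback_omega {X' X S' S : Scheme.{u}} {g' : X' ⟶ X} {f' : X' ⟶ S'} {f : X ⟶ S} {g : S' ⟶ S}
    (n : ℕ) (sq : IsPullback g' f' f g) [QuasiSeparated f] [QuasiSeparated f'] [SmoothOfRelativeDimension n f] :
    Nonempty ((Scheme.Modules.pullback g').obj (Omega.sheaf f) ≅ Omega.sheaf f') := by
  haveI : SmoothOfRelativeDimension n f' :=
    (smoothOfRelativeDimension_isStableUnderBaseChange (n := n)).of_isPullback sq inferInstance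
  obtain ⟨c, hc, -⟩ := Groth.L19.OmegaSh.existsUnique_diffCompat g' g sq.w.symm
    (Groth.L19.OmegaSh.isUniversal_dOmega (f := f)) (_root_.OmegaSh.dOmega f')
  haveI := Groth.L21.OmegaFam.epi_diffCompat sq (Groth.L19.OmegaSh.isUniversal_dOmega (f := f')) hc
  haveI := Groth.L12.RR.isIso_of_epi_rank c
    (Groth.L18.MapEpi.isFinLocFreeOfRank_pullback g' (Groth.L02.Canon.isFinLocFreeOfRank_omega (f := f) n))
    (Groth.L02.Canon.isFinLocFreeOfRank_omega (f := f') n)
  exact ⟨asIso c⟩

/-- Riemann–Roch on a smooth proper surface over any field. -/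
theorem rr {X : Scheme.{u}} [X.Over (Spec (CommRingCat.of k))]
    [IsProper (X ↘ Spec (CommRingCat.of k))] [Smooth (X ↘ Spec (CommRingCat.of k))]
    (hdim : ∀ Z ∈ irreducibleComponents (X : Type u), topologicalKrullDim Z = 2)
    {W : X.Modules} (hW : ExtPow.IsExtPow 2 (Omega.sheaf (X ↘ Spec (CommRingCat.of k))) W)
    {L : X.Modules} (hL : PicF.IsInvertible L) :
    PicF.IsInvertible W ∧ 2 * Curv2.euler k X L =
      FGA.intNum k X 2 ![L, L] (Coh.structureModule X) - FGA.intNum k X 2 ![L, W] (Coh.structureModule X) +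
        2 * Curv2.euler k X (Coh.structureModule X) := by
  classical
  haveI := Groth.L21.RR.isNoetherian_of_proper (X := X) k
  have hreg := fun x : X => Groth.L08.Cube.isRegularLocalRing_of_smooth (X ↘ Spec (CommRingCat.of k)) x
  have hdom : ∀ x : X, IsDomain (X.presheaf.stalk x) := fun x =>
    haveI := hreg x; Groth.L01.isDomain_of_regular _
  haveI : SmoothOfRelativeDimension 2 (X ↘ Spec (CommRingCat.of k)) := by
    refine IsZariskiLocalAtSource.of_iSup_eq_top (P := @SmoothOfRelativeDimension 2)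
      (fun Z : irreducibleComponents (X : Type u) => Groth.L28.DivGen.compOpen hdom Z)
      (eq_top_iff.2 fun x _ => Opens.mem_iSup.2
        ⟨⟨irreducibleComponent x, irreducibleComponent_mem_irreducibleComponents x⟩, mem_irreducibleComponent⟩)
      fun Z => ?_
    haveI := Groth.L28.DivGen.isIntegral_compOpen hdom Z
    exact Groth.L16.SmoothSection.smoothOfRelativeDimension_dim _ 2 ((hdim _ Z.2).trans Nat.cast_ofNat.symm)
  have hd2 : topologicalKrullDim X ≤ (2 : ℕ) := Groth.L10.ShriekLoc.dim_le_of_components 2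
    fun Z hZ => ((hdim Z hZ).trans Nat.cast_ofNat.symm).le
  have hΩ := Groth.L02.Canon.isFinLocFreeOfRank_omega (f := X ↘ Spec (CommRingCat.of k)) 2
  have hWinv : PicF.IsInvertible W := by
    obtain ⟨ψ, hψ⟩ := id hW
    exact Groth.L22.CurveDeg.Det.isInvertible_of_extPow ψ hψ hΩ
  refine ⟨hWinv, ?_⟩
  haveI : Coh.IsQCoh (Omega.sheaf (X ↘ Spec (CommRingCat.of k))) :=
    Groth.L29.DC.PCQCoh.isQCoh_of_isFinLocFree fun x => let ⟨V, hV⟩ := hΩ x; ⟨V, 2, hV⟩
  let K := AlgebraicClosure k
  let Y := pullback (X ↘ Spec (CommRingCat.of k)) (Spec.map (CommRingCat.ofHom (algebraMap k K)))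
  let g : Y ⟶ X := pullback.fst _ _
  letI : Y.Over (Spec (CommRingCat.of K)) := ⟨pullback.snd _ _⟩
  have sq : IsPullback g (Y ↘ Spec (CommRingCat.of K)) (X ↘ Spec (CommRingCat.of k))
      (Spec.map (CommRingCat.ofHom (algebraMap k K))) := IsPullback.of_hasPullback _ _
  haveI : IsProper (Y ↘ Spec (CommRingCat.of K)) := MorphismProperty.of_isPullback sq inferInstance
  haveI hs : SmoothOfRelativeDimension 2 (Y ↘ Spec (CommRingCat.of K)) :=
    (smoothOfRelativeDimension_isStableUnderBaseChange (n := 2)).of_isPullback sq inferInstance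
  haveI : Smooth (Y ↘ Spec (CommRingCat.of K)) := SmoothOfRelativeDimension.smooth 2 _
  haveI := Groth.L21.RR.isNoetherian_of_proper (X := Y) K
  have hdomY : ∀ y : Y, IsDomain (Y.presheaf.stalk y) := fun y =>
    haveI := Groth.L08.Cube.isRegularLocalRing_of_smooth (Y ↘ Spec (CommRingCat.of K)) y
    Groth.L01.isDomain_of_regular _
  have hdimY : ∀ Z ∈ irreducibleComponents (Y : Type u), topologicalKrullDim Z = 2 := fun Z hZ => by
    let V := Groth.L28.DivGen.compOpen hdomY ⟨Z, hZ⟩
    haveI := Groth.L28.DivGen.isIntegral_compOpen hdomY ⟨Z, hZ⟩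
    haveI : SmoothOfRelativeDimension 2 (V.ι ≫ (Y ↘ Spec (CommRingCat.of K))) :=
      IsZariskiLocalAtSource.comp hs V.ι
    exact (Groth.L03.SurfAdj.dim_of_relDim (X := (V : Scheme.{u})) (V.ι ≫ (Y ↘ Spec (CommRingCat.of K))) 2).trans
      Nat.cast_ofNat
  obtain ⟨eo⟩ := nonempty_pullback_omega 2 sq
  have hWY : ExtPow.IsExtPow 2 (Omega.sheaf (Y ↘ Spec (CommRingCat.of K))) ((Scheme.Modules.pullback g).obj W) :=
    Groth.L20.ExtPull.isExtPow_congr eo (Groth.L20.ExtPull.isExtPow_pullback g hW)
  have hLY := Groth.L18.Ample.isInvertible_pullback g hL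
  obtain ⟨-, h⟩ := rr_closed K hdimY hWY hLY
  have hb : ∀ {M : X.Modules}, PicF.IsInvertible M →
      Curv2.euler K Y ((Scheme.Modules.pullback g).obj M) = Curv2.euler k X M := fun hM =>
    Groth.L21.RR.euler_pullback g sq (Groth.L18.Ample.isCoh_of_isInvertible hM)
  have hbO : Curv2.euler K Y (Coh.structureModule Y) = Curv2.euler k X (Coh.structureModule X) := by
    rw [← hb (Groth.L18.Ample.isInvertible_structureModule X), euler_iso (Groth.L29.LocFree.pullbackUnitIso g)]
  have hbT : ∀ {M N : X.Modules}, PicF.IsInvertible M → PicF.IsInvertible N →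
      Curv2.euler K Y (CohB1.tensorMod ((Scheme.Modules.pullback g).obj M) ((Scheme.Modules.pullback g).obj N)) =
        Curv2.euler k X (CohB1.tensorMod M N) := fun {M N} hM hN => by
    rw [← hb (Groth.L18.GenLoc.isInvertible_tensor hM hN), euler_iso (Groth.L29.DC.PullTensor.pullTensor g M N).symm]
  rw [ii_expand K, ii_expand K, hb hL, hb hWinv, hbO, hbT hL hL, hbT hL hWinv] at h
  have h' : (2 * Curv2.euler k X L : ℚ) = (FGA.intNum k X 2 ![L, L] (Coh.structureModule X) : ℚ) -
      FGA.intNum k X 2 ![L, W] (Coh.structureModule X) + 2 * Curv2.euler k X (Coh.structureModule X) := by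
    rw [intNum_two k hd2, intNum_two k hd2, ii_expand k, ii_expand k]
    linarith
  exact_mod_cast h'

end Groth.L03.SurfRR
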