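import Groth.Agent.L03.Euler.Push
import Groth.Agent.L03.ShStab.QuadricCoh
import Groth.Agent.L16.Exist.OpenPush
import Groth.Agent.L21.Mod.Locality
import Groth.Agent.L21.RR.Finite
import Groth.Agent.L17.KilledUnit
import Groth.Agent.L16.AffineBC.Pullback
import Groth.Agent.L16.CohClosedPush
import Groth.Agent.L22.Inter.Fga
import Groth.Agent.L03.SurfAdj.Section

/-!
# Euler characteristics on a disjoint union
-/

set_option autoImplicit false
set_option linter.style.haveILetI false
set_option backward.isDefEq.respectTransparency false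
set_option linter.unusedSectionVars false

universe u

open CategoryTheory CategoryTheory.Limits AlgebraicGeometry TopologicalSpace

noncomputable section

namespace Groth.L03.SurfRR

variable {X : Scheme.{u}} {p : ℕ} (U : Fin p → X.Opens)

/-- A module restricted to a piece and pushed back. -/
abbrev piece (M : X.Modules) (j : Fin p) : X.Modules :=
  (Scheme.Modules.pushforward (U j).ι).obj ((Scheme.Modules.restrictFunctor (U j).ι).obj M)

variable (hdisj : ∀ i j, i ≠ j → ∀ x, x ∈ U i → x ∉ U j) (hcov : iSup U = ⊤)
include hdisj hcov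

/-- A module on a disjoint union is the sum of its pieces. -/
theorem nonempty_iso_sigma (M : X.Modules) : Nonempty (M ≅ ∐ piece U M) := by
  classical
  let η : ∀ j, M ⟶ piece U M j := fun j => (Scheme.Modules.restrictAdjunction (U j).ι).unit.app M
  let φ : M ⟶ ⨁ piece U M := biproduct.lift η
  have : IsIso φ := by
    refine Groth.L21.Mod.isIso_of_restrict_opens U hcov φ fun j => ?_
    let F := Scheme.Modules.restrictFunctor (U j).ι
    haveI : F.Additive := by
      haveI : PreservesBinaryBiproducts F := preservesBinaryBiproducts_of_preservesBinaryCoproducts F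
      exact Functor.additive_of_preservesBinaryBiproducts F
    have hz : ∀ i, i ≠ j → IsZero (F.obj (piece U M i)) := fun i hi =>
      Groth.L16.Exist.isZero_restrict_push (U i).ι (U j).ι _ fun x _ hx => by
        rw [Scheme.Opens.range_ι] at hx
        exact hdisj i j hi _ x.2 hx
    haveI : IsIso (F.map (η j)) := by
      have h := (Scheme.Modules.restrictAdjunction (U j).ι).left_triangle_components M
      rw [← IsIso.eq_comp_inv, Category.id_comp] at h
      exact h ▸ inferInstance
    haveI : IsIso (F.map (biproduct.π (piece U M) j)) := by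
      refine ⟨F.map (biproduct.ι (piece U M) j), ?_, ?_⟩
      · have h := congrArg F.map (biproduct.total (f := piece U M))
        rw [Functor.map_sum, Finset.sum_eq_single j
          (fun i _ hi => by rw [Functor.map_comp, (hz i hi).eq_of_tgt (F.map (biproduct.π _ i)) 0, zero_comp])
          (fun h => absurd (Finset.mem_univ j) h), Functor.map_comp, CategoryTheory.Functor.map_id] at h
        exact h
      · rw [← Functor.map_comp, biproduct.ι_π_self, CategoryTheory.Functor.map_id]
    have h : F.map φ ≫ F.map (biproduct.π (piece U M) j) = F.map (η j) := by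
      rw [← Functor.map_comp, biproduct.lift_π]
    exact IsIso.of_isIso_fac_right h
  exact ⟨asIso φ ≪≫ biproduct.isoCoproduct _⟩

variable (k : Type u) [Field k] [X.Over (Spec (CommRingCat.of k))] [IsProper (X ↘ Spec (CommRingCat.of k))]

/-- The structure morphism of a piece. -/
@[reducible] def overPiece (j : Fin p) : (U j : Scheme.{u}).Over (Spec (CommRingCat.of k)) :=
  ⟨(U j).ι ≫ (X ↘ Spec (CommRingCat.of k))⟩

/-- Euler characteristics add up over the pieces. -/
theorem euler_sum (hclosed : ∀ j, IsClosedImmersion (U j).ι) {M : X.Modules} (hM : Coh.IsCoh M) :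
    Curv2.euler k X M = ∑ j, @Curv2.euler k _ (U j : Scheme.{u}) (overPiece U k j)
      ((Scheme.Modules.pullback (U j).ι).obj M) := by
  classical
  haveI := Groth.L21.RR.isNoetherian_of_proper (X := X) k
  haveI : X.IsSeparated := ⟨by rw [← terminal.comp_from (X ↘ Spec (CommRingCat.of k))]; infer_instance⟩
  obtain ⟨e⟩ := nonempty_iso_sigma U hdisj hcov M
  have hc : ∀ j, Coh.IsCoh (piece U M j) := fun j => by
    haveI := hclosed j
    haveI : IsLocallyNoetherian (U j : Scheme.{u}) := inferInstance
    exact Groth.L16.CohClosedPush.isCoh_push (i := (U j).ι) (Groth.L16.CohSupport.isCoh_of_iso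
      ((Scheme.Modules.restrictFunctorIsoPullback (U j).ι).app M).symm (Groth.L16.AffineBC.isCoh_pullback _ hM))
  have hsum : Curv2.euler k X M = ∑ j, Curv2.euler k X (piece U M j) := by
    obtain ⟨N, hN⟩ := Groth.L03.Euler.exists_bound (k := k) (X := X)
    haveI : ∀ j q, Module.Finite k (Coh.HH X (piece U M j) q) := fun j q =>
      Groth.L16.ProperFinite.finite_HH k (hc j) q
    rw [Groth.L03.Euler.euler_iso e, Groth.L03.Euler.euler_eq_sum (k := k) (N := N) fun n hn =>
      (Groth.L03.SurfAdj.hhEquiv k e n).symm.toEquiv.subsingleton_congr.2 (hN M hM.1 n hn),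
      Finset.sum_congr rfl fun j _ => Groth.L03.Euler.euler_eq_sum (k := k) (N := N)
        fun n hn => hN _ (hc j).1 n hn, Finset.sum_comm]
    refine Finset.sum_congr rfl fun q _ => ?_
    rw [Groth.L03.ShStab.QuadricCoh.finrank_sigma, Nat.cast_sum, Finset.mul_sum]
  rw [hsum]
  refine Finset.sum_congr rfl fun j _ => ?_
  haveI := hclosed j
  letI := overPiece U k j
  haveI : IsLocallyNoetherian (U j : Scheme.{u}) := inferInstance
  have h := Groth.L03.Euler.euler_push (k := k) (U j).ι ((Scheme.Modules.pullback (U j).ι).obj M)
    (Groth.L16.AffineBC.isCoh_pullback _ hM).1 rfl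
  exact (Groth.L03.Euler.euler_iso ((Scheme.Modules.pushforward (U j).ι).mapIso
    ((Scheme.Modules.restrictFunctorIsoPullback (U j).ι).app M))).trans h

end Groth.L03.SurfRR
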